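import Cfsg.Agent.Lib.M24Index.Data
import Cfsg.Agent.Lib.SporStruct.OctadOrbits
import Cfsg.Agent.Lib.SporStruct.SextetOrbits
import Cfsg.Agent.Lib.SporStruct.TrioOrbits
import Cfsg.Agent.Lib.M24SylowQuot.Checks

/-!
# Checks of the double coset data
-/

set_option autoImplicit false
set_option maxRecDepth 20000

namespace Cfsg.Agent.Lib.M24Index.Checks

open Cfsg.Agent.Lib.Computation Cfsg.Agent.Lib.Golay Cfsg.Agent.Lib.FusionAlperin.MathieuCert

open Cfsg.Agent.Lib.SporStruct.FamilyCode (unpack)

/-- The listed elements of the Sylow group. -/
abbrev LP : List ℕ := M24SylowQuot.elsP.map Prod.fst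

/-- The permutation code fixes each family setwise. -/
def famFix (c : ℕ) (ms : List ℕ) : Bool :=
  ms.all fun m => ms.any fun n => Nat.beq (permMask c m) n

/-- The permutation code fixes one of the three configurations. -/
def fixesAny (c : ℕ) : Bool :=
  Nat.beq (permMask c Data.octad) Data.octad || famFix c (unpack 6 Data.sextet) ||
    famFix c (unpack 3 Data.trio)

/-- The eleventh power. -/
def p11 (u : ℕ) : ℕ :=
  forceNat u fun u => forceNat (mulP 24 5 u u) fun u2 => forceNat (mulP 24 5 u2 u2) fun u4 =>
    mulP 24 5 (mulP 24 5 u4 u4) (mulP 24 5 u2 u)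

/-- The twenty-third power. -/
def p23 (u : ℕ) : ℕ :=
  forceNat u fun u => forceNat (mulP 24 5 u u) fun u2 => forceNat (mulP 24 5 u2 u2) fun u4 =>
    forceNat (mulP 24 5 u4 u4) fun u8 =>
      mulP 24 5 (mulP 24 5 u8 u8) (mulP 24 5 u4 (mulP 24 5 u2 u))

/-- A non-trivial element killed by 11 or 23. -/
def badOrd (u : ℕ) : Bool :=
  !Nat.beq u oneCode && (Nat.beq (p11 u) oneCode || Nat.beq (p23 u) oneCode)

/-- One product and its witness. -/
def killOne (t : STree) (a : ℕ) (e : (ℕ × ℕ) × ℕ) : Bool :=
  forceNat (mulP 24 5 a e.1.1) fun c =>
    bif Nat.beq e.2 0 then fixesAny c else t.has e.2 && forceNat (mulP 24 5 c e.2) badOrd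

/-- All products of one orbit. -/
def killRow (i : ℕ) : Bool :=
  let t := buildTree 12 LP
  Nat.beq (Data.wit.getD i []).length 315 &&
    (List.zip Data.right (Data.wit.getD i [])).all (killOne t (Data.left.getD i 0))

/-- The cover of the octads. -/
noncomputable def coverOk : Bool :=
  let t := buildTree 12 LP
  (Data.cover.all fun e => Nat.blt e.2.1 14 && t.has e.2.2 &&
    Nat.beq (permMask e.2.2 (permMask (Data.left.getD e.2.1 0) Data.octad)) e.1) &&
    SporStruct.OctadOrbits.univMasks.all fun m => Data.cover.any fun e => Nat.beq e.1 m

/-- The representatives of the cosets in the stabiliser of the octad. -/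
def rightOk : Bool :=
  Nat.beq Data.right.length 315 &&
  Data.right.all fun e => inM24 e.1 && okCode e.2 && Nat.beq (mulP 24 5 e.2 e.1) oneCode &&
    Nat.beq (permMask e.1 Data.octad) Data.octad

/-- The cosets of the representatives are distinct. -/
def distinctOk : Bool :=
  let t := buildTree 12 LP
  (List.range 315).all fun j => (List.range 315).all fun k => Nat.ble j k ||
    !t.has (mulP 24 5 (Data.right.getD j (0, 0)).2 (Data.right.getD k (0, 0)).1)

theorem left_ok : Data.left.all inM24 && Nat.beq Data.left.length 14 = true := by decide +kernel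

theorem gens_fix : M24SylowQuot.gensP.all (fun g => Nat.beq (permMask g Data.octad) Data.octad &&
    famFix g (unpack 6 Data.sextet) && famFix g (unpack 3 Data.trio)) = true := by decide +kernel

theorem config_ok : (inCode Data.octad && Nat.beq (pc24 Data.octad) 8 &&
    SporStruct.SextetOrbits.memTest Data.sextet && SporStruct.TrioOrbits.memTest Data.trio) = true := by
  decide +kernel

theorem cover_ok : coverOk = true := by decide +kernel

theorem right_ok : rightOk = true := by decide +kernel

theorem kill0 : killRow 0 = true := by decide +kernel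
theorem kill1 : killRow 1 = true := by decide +kernel
theorem kill2 : killRow 2 = true := by decide +kernel
theorem kill3 : killRow 3 = true := by decide +kernel
theorem kill4 : killRow 4 = true := by decide +kernel
theorem kill5 : killRow 5 = true := by decide +kernel
theorem kill6 : killRow 6 = true := by decide +kernel
theorem kill7 : killRow 7 = true := by decide +kernel
theorem kill8 : killRow 8 = true := by decide +kernel
theorem kill9 : killRow 9 = true := by decide +kernel
theorem kill10 : killRow 10 = true := by decide +kernel
theorem kill11 : killRow 11 = true := by decide +kernel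
theorem kill12 : killRow 12 = true := by decide +kernel
theorem kill13 : killRow 13 = true := by decide +kernel

theorem distinct_ok : distinctOk = true := by decide +kernel

end Cfsg.Agent.Lib.M24Index.Checks
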