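import Cfsg.Agent.Lib.FusionAlperin.MathieuInst
import Cfsg.Agent.Lib.M24Index.Data
import Cfsg.Agent.Lib.MathieuBlocks.Search

/-!
# Fixed points of elements of order 7 and 11 in M24
-/

set_option autoImplicit false
set_option maxRecDepth 8000
set_option linter.style.haveILetI false

namespace Cfsg.Agent.Lib.M24Index.Fixed

open Cfsg Cfsg.Agent.Lib.Computation Cfsg.Agent.Lib.Golay
open Cfsg.Agent.Lib.FusionAlperin.MathieuCert

/-- All non-trivial listed elements fix exactly `b` points. -/
def fixOk (b : ℕ) (L : List ℕ) : Bool :=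
  L.all fun c => Nat.beq c oneCode || Nat.beq (pc24 (fixMask c)) b

theorem groupOk7 : groupOk inM24 Data.sevenGens Data.sevenEls = true := by decide +kernel

theorem fixOk7 : fixOk 3 (Data.sevenEls.map Prod.fst) = true := by decide +kernel

theorem len7 : (Data.sevenEls.map Prod.fst).length = 7 := by decide +kernel

theorem groupOk11 : groupOk inM24 Data.elevenGens Data.elevenEls = true := by decide +kernel

theorem fixOk11 : fixOk 2 (Data.elevenEls.map Prod.fst) = true := by decide +kernel

theorem len11 : (Data.elevenEls.map Prod.fst).length = 11 := by decide +kernel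

theorem fixed_eq {p b : ℕ} [Fact p.Prime] {gens : List ℕ} {els : List (ℕ × List ℕ)}
    (hok : groupOk inM24 gens els = true) (hlen : (els.map Prod.fst).length = p)
    (hfac : (Nat.card M24).factorization p = 1) (hfix : fixOk b (els.map Prod.fst) = true)
    {z : M24} (hz : orderOf z = p) :
    Nat.card {a // (z : Equiv.Perm GolayPt) a = a} = b := by
  have D := groupData_of_ok (H := M24) (fun _ h => gperm_mem_M24 h) hok
  have hcard : Nat.card (genBy gens) = p := by rw [D.card_eq, hlen]
  obtain ⟨T, hT⟩ : ∃ T : Sylow p M24, (T : Subgroup M24) = (genBy gens).subgroupOf M24 := by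
    refine ⟨Sylow.ofCard _ ?_, rfl⟩
    rw [hfac, pow_one, ← hcard]
    exact Nat.card_congr (Subgroup.subgroupOfEquivOfLe D.le).toEquiv
  obtain ⟨S, hS⟩ := (IsPGroup.of_card (p := p) (n := 1)
    (by rw [Nat.card_zpowers, hz, pow_one]) : IsPGroup p (Subgroup.zpowers z)).exists_le_sylow
  obtain ⟨a, ha⟩ := MulAction.exists_smul_eq M24 S T
  have hmem : a * z * a⁻¹ ∈ (T : Subgroup M24) := by
    rw [← ha, Sylow.coe_subgroup_smul]
    exact ⟨z, hS (Subgroup.mem_zpowers z), rfl⟩
  rw [hT, Subgroup.mem_subgroupOf] at hmem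
  obtain ⟨c, hc, he⟩ := D.exists_code hmem
  have hok' := (D.ok c hc).1
  have h := List.all_eq_true.mp hfix c hc
  simp only [Bool.or_eq_true, Nat.beq_eq] at h
  rcases h with h | h
  · exfalso
    subst h
    rw [gperm_oneCode] at he
    have h1 : a * z * a⁻¹ = 1 := Subtype.ext he.symm
    rw [conj_eq_one_iff] at h1
    rw [h1, orderOf_one] at hz
    exact (Fact.out : p.Prime).one_lt.ne hz
  · rw [← h, ← card_setOfMask, ← Nat.card_eq_finsetCard]
    simp only [Subgroup.coe_mul, Subgroup.coe_inv] at he
    refine Nat.card_congr (Equiv.subtypeEquiv (a : Equiv.Perm GolayPt) fun q => ?_)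
    rw [mem_setOfMask, mem_fixMask hok', he]
    simp

theorem fixed_seven {z : M24} (hz : orderOf z = 7) :
    Nat.card {a // (z : Equiv.Perm GolayPt) a = a} = 3 := by
  haveI : Fact (Nat.Prime 7) := ⟨by norm_num⟩
  refine fixed_eq groupOk7 len7 ?_ fixOk7 hz
  rw [Golay.card_M24, show (244823040 : ℕ) = 7 * 34974720 by norm_num,
    Nat.factorization_mul (by norm_num) (by norm_num), Finsupp.add_apply,
    Nat.Prime.factorization (by norm_num), Finsupp.single_eq_same,
    Nat.factorization_eq_zero_of_not_dvd (by norm_num : ¬ 7 ∣ 34974720)]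

theorem fixed_eleven {z : M24} (hz : orderOf z = 11) :
    Nat.card {a // (z : Equiv.Perm GolayPt) a = a} = 2 := by
  haveI : Fact (Nat.Prime 11) := ⟨by norm_num⟩
  refine fixed_eq groupOk11 len11 ?_ fixOk11 hz
  rw [Golay.card_M24, show (244823040 : ℕ) = 11 * 22256640 by norm_num,
    Nat.factorization_mul (by norm_num) (by norm_num), Finsupp.add_apply,
    Nat.Prime.factorization (by norm_num), Finsupp.single_eq_same,
    Nat.factorization_eq_zero_of_not_dvd (by norm_num : ¬ 11 ∣ 22256640)]

end Cfsg.Agent.Lib.M24Index.Fixed
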