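import Mathlib

/-!
# A group covered by three subgroups with common part of odd index
-/

set_option autoImplicit false

set_option linter.unusedSectionVars false
set_option linter.style.haveILetI false

namespace Cfsg.Agent.Lib.M24Index.Union

variable {G : Type*} [Group G] [Finite G] {H A B C : Subgroup G}

/-- If no element avoids two of them then one contains the group. -/
theorem le_of_two (h : ∀ x ∈ H, x ∈ A ∨ x ∈ B) : H ≤ A ∨ H ≤ B := by
  by_contra hc
  rw [not_or, SetLike.not_le_iff_exists, SetLike.not_le_iff_exists] at hc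
  obtain ⟨⟨b, hb, hbA⟩, a, ha, haB⟩ := hc
  have haA := (h a ha).resolve_right haB
  have hbB := (h b hb).resolve_left hbA
  rcases h _ (H.mul_mem ha hb) with hab | hab
  · exact hbA ((A.mul_mem_cancel_left haA).1 hab)
  · exact haB ((B.mul_mem_cancel_right hbB).1 hab)

/-- An irredundant covering has a common part containing all squares. -/
theorem sq_mem (h : ∀ x ∈ H, x ∈ A ∨ x ∈ B ∨ x ∈ C) {c : G} (hc : c ∈ H) (hcA : c ∉ A) (hcB : c ∉ B)
    {x : G} (hx : x ∈ H) (hxA : x ∈ A) (hxB : x ∈ B) : x ∈ C := by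
  have hcC : c ∈ C := ((h c hc).resolve_left hcA).resolve_left hcB
  rcases h _ (H.mul_mem hc hx) with h' | h' | h'
  · exact absurd ((A.mul_mem_cancel_right hxA).1 h') hcA
  · exact absurd ((B.mul_mem_cancel_right hxB).1 h') hcB
  · exact (C.mul_mem_cancel_left hcC).1 h'

/-- The squares of a subgroup covered irredundantly lie in all three. -/
theorem sq_in_all (h : ∀ x ∈ H, x ∈ A ∨ x ∈ B ∨ x ∈ C) {b c : G}
    (hb : b ∈ H) (hbA : b ∉ A) (hbC : b ∉ C) (hc : c ∈ H) (hcA : c ∉ A) (hcB : c ∉ B)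
    {y : G} (hy : y ∈ H) (hyA : y ∈ A) : y * y ∈ A ∧ y * y ∈ B ∧ y * y ∈ C := by
  have hyy := A.mul_mem hyA hyA
  have hAB : ∀ {x}, x ∈ H → x ∈ A → x ∈ B → x ∈ C := fun hx h1 h2 => sq_mem h hc hcA hcB hx h1 h2
  have hCA : ∀ {x}, x ∈ H → x ∈ C → x ∈ A → x ∈ B := fun {x} hx h1 h2 =>
    sq_mem (A := C) (B := A) (C := B) (fun x hx => by have := h x hx; tauto) hb hbC hbA hx h1 h2
  by_cases hyB : y ∈ B
  · have hyC := hAB hy hyA hyB
    exact ⟨hyy, B.mul_mem hyB hyB, C.mul_mem hyC hyC⟩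
  by_cases hyC : y ∈ C
  · exact absurd (hCA hy hyC hyA) hyB
  have hbB : b ∈ B := ((h b hb).resolve_left hbA).resolve_right hbC
  have key : ∀ {z}, z ∈ H → z ∈ A → z ∉ B → z * b ∈ C := by
    intro z hz hzA hzB
    rcases h _ (H.mul_mem hz hb) with h' | h' | h'
    · exact absurd ((A.mul_mem_cancel_left hzA).1 h') hbA
    · exact absurd ((B.mul_mem_cancel_right hbB).1 h') hzB
    · exact h'
  have h1 := key hy hyA hyB
  have h2 := key (H.inv_mem hy) (A.inv_mem hyA) (fun hh => hyB (inv_mem_iff.1 hh))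
  have h3 : y * y ∈ C := by
    have := C.mul_mem h1 (C.inv_mem h2)
    simpa [mul_assoc] using this
  exact ⟨hyy, hCA (H.mul_mem hy hy) h3 hyy, h3⟩

/-- A group covered by three subgroups which contain a common subgroup of odd index lies in one. -/
theorem le_of_three (h : ∀ x ∈ H, x ∈ A ∨ x ∈ B ∨ x ∈ C) {K : Subgroup G} (hK : K ≤ H)
    (hKA : K ≤ A) (hKB : K ≤ B) (hKC : K ≤ C) (hodd : Odd (K.relIndex H)) :
    H ≤ A ∨ H ≤ B ∨ H ≤ C := by
  by_contra hc0
  have hc : ∀ {P Q R : Subgroup G}, (∀ x ∈ H, x ∈ P ∨ x ∈ Q ∨ x ∈ R) →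
      ¬ (H ≤ P ∨ H ≤ Q ∨ H ≤ R) → ∃ x ∈ H, x ∉ Q ∧ x ∉ R := by
    intro P Q R hcov hn
    by_contra hne
    rcases le_of_two (H := H) (A := Q) (B := R) (fun x hx => by
      by_contra hh
      rw [not_or] at hh
      exact hne ⟨x, hx, hh.1, hh.2⟩) with h' | h'
    · exact hn (Or.inr (Or.inl h'))
    · exact hn (Or.inr (Or.inr h'))
  obtain ⟨a, ha, haB, haC⟩ := hc h hc0
  obtain ⟨b, hb, hbC, hbA⟩ := hc (P := B) (Q := C) (R := A)
    (fun x hx => by have := h x hx; tauto) (by tauto)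
  obtain ⟨c, hc', hcA, hcB⟩ := hc (P := C) (Q := A) (R := B)
    (fun x hx => by have := h x hx; tauto) (by tauto)
  let D := H ⊓ A ⊓ B ⊓ C
  have hsq : ∀ y ∈ H, y * y ∈ D := by
    intro y hy
    have hyy := H.mul_mem hy hy
    rcases h y hy with hy' | hy' | hy'
    · obtain ⟨h1, h2, h3⟩ := sq_in_all h hb hbA hbC hc' hcA hcB hy hy'
      exact ⟨⟨⟨hyy, h1⟩, h2⟩, h3⟩
    · obtain ⟨h1, h2, h3⟩ := sq_in_all (A := B) (B := C) (C := A)
        (fun x hx => by have := h x hx; tauto) hc' hcB hcA ha haB haC hy hy'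
      exact ⟨⟨⟨hyy, h3⟩, h1⟩, h2⟩
    · obtain ⟨h1, h2, h3⟩ := sq_in_all (A := C) (B := A) (C := B)
        (fun x hx => by have := h x hx; tauto) ha haC haB hb hbC hbA hy hy'
      exact ⟨⟨⟨hyy, h2⟩, h3⟩, h1⟩
  let D' := D.subgroupOf H
  haveI : D'.Normal := by
    refine ⟨fun d hd g => ?_⟩
    rw [Subgroup.mem_subgroupOf] at hd ⊢
    have h1 := hsq _ (H.mul_mem g.2 d.2)
    have h2 := hsq _ g.2
    have h3 : ((g : G) * d * g) ∈ D := by
      have := D.mul_mem h1 (D.inv_mem hd)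
      simpa [mul_assoc] using this
    have := D.mul_mem h3 (D.inv_mem h2)
    simpa [mul_assoc] using this
  have hp : IsPGroup 2 (H ⧸ D') := fun q => by
    induction q using QuotientGroup.induction_on with
    | H g =>
      refine ⟨1, ?_⟩
      rw [pow_one, pow_two, ← QuotientGroup.mk_mul, QuotientGroup.eq_one_iff, Subgroup.mem_subgroupOf]
      exact hsq _ g.2
  haveI : Fact (Nat.Prime 2) := ⟨Nat.prime_two⟩
  obtain ⟨n, hn⟩ := hp.exists_card_eq
  have hdvd : D.relIndex H ∣ K.relIndex H :=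
    Subgroup.relIndex_dvd_of_le_left H (le_inf (le_inf (le_inf hK hKA) hKB) hKC)
  rw [show D.relIndex H = Nat.card (H ⧸ D') from rfl, hn] at hdvd
  have hn0 : n = 0 := by
    by_contra hn0
    have : 2 ∣ K.relIndex H := (dvd_pow_self 2 hn0).trans hdvd
    exact Nat.not_even_iff_odd.2 hodd (even_iff_two_dvd.2 this)
  subst hn0
  have : H ≤ D := Subgroup.relIndex_eq_one.1 hn
  exact haB (this ha).1.2

end Cfsg.Agent.Lib.M24Index.Union
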