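import Cfsg.Agent.Lib.M24Index.Checks
import Cfsg.Agent.Lib.M24Index.Union

/-!
# Subgroups of M24 of odd index without elements of order 11 and 23

Such a group contains a conjugate of the coded Sylow 2-subgroup, and every element of it then fixes
the octad, the sextet or the trio fixed by that subgroup.
-/

set_option autoImplicit false
set_option linter.style.haveILetI false

namespace Cfsg.Agent.Lib.M24Index.Main

open Cfsg Cfsg.Agent.Lib.Computation Cfsg.Agent.Lib.Golay
open Cfsg.Agent.Lib.FusionAlperin.MathieuCert Cfsg.Agent.Lib.M24Index.Checks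
open Cfsg.Agent.Lib.SporStruct.FamilyCode (unpack family family_spec)
open Cfsg.Agent.Lib.SporStruct.Masks (maskOfSet_setOfMask maskOfSet_injective maskOfSet_lt)
open scoped Pointwise

attribute [local irreducible] mulP canon oneCode okCode getW packW pc24 permMask inM24

theorem canon_mulP (a b : ℕ) : canon (mulP 24 5 a b) = mulP 24 5 a b := by
  unfold canon mulP
  simp only [forceNat_eq]
  exact packW_congr fun i hi => getW_packW (w := 5) (f := fun x => getW 5 a (getW 5 b x))
    (fun x _ => by rw [getW_eq]; exact Nat.mod_lt _ (Nat.two_pow_pos 5)) hi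

theorem canon_one : canon oneCode = oneCode := by decide +kernel

/-- The search finds every member of an increasing list which fits. -/
theorem has_of_mem : ∀ {k : ℕ} {l : List ℕ} {x : ℕ}, l.Pairwise (· < ·) → l.length < 2 ^ k →
    x ∈ l → (buildTree k l).has x = true := by
  intro k
  induction k with
  | zero =>
    intro l x _ hl hx
    rw [pow_zero, Nat.lt_one_iff, List.length_eq_zero_iff] at hl
    simp [hl] at hx
  | succ k ih =>
    intro l x hp hl hx
    rw [pow_succ] at hl
    have hsplit := List.take_append_drop (l.length / 2) l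
    rw [buildTree]
    split
    next hd =>
      have := congrArg List.length hd
      rw [List.length_drop, List.length_nil] at this
      have hpos := List.length_pos_of_mem hx
      omega
    next a r hd =>
      rw [hd] at hsplit
      rw [← hsplit] at hx hp
      rw [List.pairwise_append, List.pairwise_cons] at hp
      obtain ⟨hp1, ⟨hp2, hp3⟩, hp4⟩ := hp
      have hlr : r.length + 1 = l.length - l.length / 2 := by
        rw [← List.length_drop, hd, List.length_cons]
      rw [STree.has]
      rcases List.mem_append.1 hx with hx | hx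
      · have hlt : Nat.blt x a = true := by rw [Nat.blt_eq]; exact hp4 x hx a List.mem_cons_self
        rw [hlt, cond_true]
        exact ih hp1 (by rw [List.length_take]; omega) hx
      · rcases List.mem_cons.1 hx with rfl | hx
        · have hirr : Nat.blt x x = false := by
            rw [← Bool.not_eq_true, Nat.blt_eq]; exact lt_irrefl x
          rw [hirr]
          simp [hirr]
        · have hgt := hp2 x hx
          have h1 : Nat.blt x a = false := by
            rw [← Bool.not_eq_true, Nat.blt_eq]; omega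
          have h2 : Nat.blt a x = true := by rw [Nat.blt_eq]; exact hgt
          rw [h1, cond_false, h2, cond_true]
          exact ih hp3 (by omega) hx

theorem sorted_LP : ((List.zip LP LP.tail).all fun q => Nat.blt q.1 q.2) = true := by decide +kernel

/-- The fixed octad. -/
noncomputable def o0 : Finset GolayPt := setOfMask Data.octad

/-- The fixed sextet. -/
noncomputable def x0 : Finset (Finset GolayPt) := family 6 Data.sextet

/-- The fixed trio. -/
noncomputable def t0 : Finset (Finset GolayPt) := family 3 Data.trio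

theorem o0_mem : o0 ∈ octads := by
  have h := config_ok
  simp only [Bool.and_eq_true, Nat.beq_eq] at h
  exact ⟨setOfMask_mem_supports h.1.1.1, by rw [o0, card_setOfMask, h.1.1.2]⟩

theorem x0_mem : x0 ∈ sextets := by
  have h := config_ok
  simp only [Bool.and_eq_true] at h
  exact (SporStruct.SextetOrbits.of_memTest h.1.2).1

theorem t0_mem : t0 ∈ trios := by
  have h := config_ok
  simp only [Bool.and_eq_true] at h
  exact (SporStruct.TrioOrbits.of_memTest h.2).1

theorem famFix_spec {c k x : ℕ} (hc : okCode c = true) (h : famFix c (unpack k x) = true) :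
    gperm c • family k x = family k x := by
  refine Finset.eq_of_subset_of_card_le (fun q hq => ?_) (by rw [Finset.card_smul_finset])
  obtain ⟨t, ht, rfl⟩ := Finset.mem_smul_finset.1 hq
  simp only [family, List.mem_toFinset, List.mem_map] at ht ⊢
  obtain ⟨m, hm, rfl⟩ := ht
  obtain ⟨n, hn, he⟩ := List.any_eq_true.1 (List.all_eq_true.1 h m hm)
  rw [Nat.beq_eq] at he
  exact ⟨n, hn, by rw [smul_setOfMask hc, he]⟩

theorem octFix_spec {c m : ℕ} (hc : okCode c = true) (h : Nat.beq (permMask c m) m = true) :
    gperm c • setOfMask m = setOfMask m := by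
  rw [Nat.beq_eq] at h
  rw [smul_setOfMask hc, h]

/-- The element of M24 with the given code. -/
noncomputable def el (c : ℕ) (h : inM24 c = true) : M24 := ⟨gperm c, gperm_mem_M24 h⟩

theorem el_coe (c : ℕ) (h : inM24 c = true) : (el c h : Equiv.Perm GolayPt) = gperm c := rfl

theorem dataP : GroupData M24 M24SylowQuot.gensP LP :=
  groupData_of_ok (fun _ h => gperm_mem_M24 h) M24SylowQuot.groupOk_P

/-- The Sylow 2-subgroup. -/
noncomputable def S : Subgroup M24 := (genBy M24SylowQuot.gensP).subgroupOf M24

theorem card_S : Nat.card S = 1024 := by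
  rw [S, Nat.card_congr (Subgroup.subgroupOfEquivOfLe dataP.le).toEquiv, dataP.card_eq,
    M24SylowQuot.length_P]

theorem mem_S_of_has {w : ℕ} (h : (buildTree 12 LP).has w = true) :
    okCode w = true ∧ ∃ s ∈ S, (s : Equiv.Perm GolayPt) = gperm w := by
  have hw := mem_of_has h
  exact ⟨(dataP.ok w hw).1, ⟨gperm w, dataP.le (dataP.gperm_mem hw)⟩,
    Subgroup.mem_subgroupOf.2 (dataP.gperm_mem hw), rfl⟩

theorem S_fix : S ≤ MulAction.stabilizer M24 o0 ⊓ MulAction.stabilizer M24 x0 ⊓
    MulAction.stabilizer M24 t0 := by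
  intro s hs
  have key : genBy M24SylowQuot.gensP ≤ MulAction.stabilizer (Equiv.Perm GolayPt) o0 ⊓
      MulAction.stabilizer (Equiv.Perm GolayPt) x0 ⊓ MulAction.stabilizer (Equiv.Perm GolayPt) t0 := by
    rw [genBy, Subgroup.closure_le]
    rintro _ ⟨g, hg, rfl⟩
    have h := List.all_eq_true.1 gens_fix g hg
    simp only [Bool.and_eq_true] at h
    have hok := dataP.gen_ok hg
    exact ⟨⟨octFix_spec hok h.1.1, famFix_spec hok h.1.2⟩, famFix_spec hok h.2⟩
  exact key (Subgroup.mem_subgroupOf.1 hs)

theorem card_stab_o0 : Nat.card (MulAction.stabilizer M24 o0) = 322560 := by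
  have h := Nat.card_congr (MulAction.orbitProdStabilizerEquivGroup M24 o0)
  rw [Nat.card_prod, Nat.card_coe_set_eq, SporStruct.OctadOrbits.orbit_eq o0_mem, ncard_octads,
    Golay.card_M24] at h
  omega

theorem card_stab_x0 : Nat.card (MulAction.stabilizer M24 x0) = 138240 := by
  have h := Nat.card_congr (MulAction.orbitProdStabilizerEquivGroup M24 x0)
  rw [Nat.card_prod, Nat.card_coe_set_eq, SporStruct.SextetOrbits.orbit_eq x0_mem,
    (Cfsg.Agent.S1550.result).2, Golay.card_M24] at h
  omega

theorem card_stab_t0 : Nat.card (MulAction.stabilizer M24 t0) = 64512 := by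
  have h := Nat.card_congr (MulAction.orbitProdStabilizerEquivGroup M24 t0)
  rw [Nat.card_prod, Nat.card_coe_set_eq, SporStruct.TrioOrbits.orbit_eq t0_mem,
    (Cfsg.Agent.S1557.result).2, Golay.card_M24] at h
  omega

theorem right_spec {j : ℕ} (hj : j < Data.right.length) :
    ∃ h : inM24 (Data.right[j]).1 = true, okCode (Data.right[j]).2 = true ∧
      (el _ h : M24) ∈ MulAction.stabilizer M24 o0 ∧
      gperm (Data.right[j]).2 = (gperm (Data.right[j]).1)⁻¹ := by
  have h := right_ok
  simp only [rightOk, Bool.and_eq_true, List.all_eq_true] at h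
  obtain ⟨⟨⟨h1, h2⟩, h3⟩, h4⟩ := h.2 _ (List.getElem_mem hj)
  refine ⟨h1, h2, octFix_spec (okCode_of_inM24 h1) h4, ?_⟩
  rw [Nat.beq_eq] at h3
  apply eq_inv_of_mul_eq_one_left
  rw [← gperm_mul h2 (okCode_of_inM24 h1), h3, gperm_oneCode]

theorem length_right : Data.right.length = 315 := by
  have h := right_ok
  simp only [rightOk, Bool.and_eq_true, Nat.beq_eq] at h
  exact h.1

/-- Every element of the stabiliser of the octad is a listed representative times an element of `S`. -/
theorem exists_right {g : M24} (hg : g ∈ MulAction.stabilizer M24 o0) :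
    ∃ e ∈ Data.right, ∃ h : inM24 e.1 = true, ∃ s ∈ S, g = el e.1 h * s := by
  let f : Fin Data.right.length × S → MulAction.stabilizer M24 o0 := fun p =>
    ⟨el _ (right_spec p.1.2).1 * p.2, mul_mem (right_spec p.1.2).2.2.1 (S_fix p.2.2).1.1⟩
  have hne : ∀ {j k : Fin Data.right.length}, (j : ℕ) > k →
      ((el _ (right_spec j.2).1)⁻¹ * el _ (right_spec k.2).1 : M24) ∉ S := by
    intro j k hjk hmem
    have h := distinct_ok
    simp only [distinctOk, List.all_eq_true, List.mem_range, Bool.or_eq_true, Bool.not_eq_true',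
      Nat.ble_eq] at h
    have h' := (h j (length_right ▸ j.2) k (length_right ▸ k.2)).resolve_left (by omega)
    rw [List.getD_eq_getElem _ _ j.2, List.getD_eq_getElem _ _ k.2] at h'
    obtain ⟨-, hok2, -, hinv⟩ := right_spec j.2
    obtain ⟨hk1, -⟩ := right_spec k.2
    obtain ⟨c, hc, he⟩ := dataP.exists_code (Subgroup.mem_subgroupOf.1 hmem)
    have e : mulP 24 5 (Data.right[(j : ℕ)]).2 (Data.right[(k : ℕ)]).1 = c := by
      refine eq_of_gperm (okCode_mulP hok2 (okCode_of_inM24 hk1)) (dataP.ok c hc).1 ?_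
        (dataP.ok c hc).2 ?_
      · exact canon_mulP _ _
      · rw [he, gperm_mul hok2 (okCode_of_inM24 hk1), hinv]
        rfl
    rw [e] at h'
    exact Bool.noConfusion (h'.symm.trans (has_of_mem (sortedLT_of_zip sorted_LP)
      (by rw [M24SylowQuot.length_P]; norm_num) hc))
  have hinj : Function.Injective f := by
    rintro ⟨j, s⟩ ⟨k, t⟩ e
    have e' : el _ (right_spec j.2).1 * (s : M24) = el _ (right_spec k.2).1 * t :=
      congrArg Subtype.val e
    have hjk : j = k := by
      rcases lt_trichotomy (j : ℕ) k with hlt | heq | hlt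
      · refine absurd ?_ (hne hlt)
        rw [show (el _ (right_spec k.2).1)⁻¹ * el _ (right_spec j.2).1 = (t : M24) * (s : M24)⁻¹ by
          rw [eq_mul_inv_iff_mul_eq, mul_assoc, e', inv_mul_cancel_left]]
        exact mul_mem t.2 (inv_mem s.2)
      · exact Fin.ext heq
      · refine absurd ?_ (hne hlt)
        rw [show (el _ (right_spec j.2).1)⁻¹ * el _ (right_spec k.2).1 = (s : M24) * (t : M24)⁻¹ by
          rw [eq_mul_inv_iff_mul_eq, mul_assoc, ← e', inv_mul_cancel_left]]
        exact mul_mem s.2 (inv_mem t.2)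
    subst hjk
    exact Prod.ext rfl (Subtype.ext (mul_left_cancel e'))
  have hbij : Function.Bijective f := (Nat.bijective_iff_injective_and_card f).2 ⟨hinj, by
    rw [Nat.card_prod, Nat.card_fin, length_right, card_S, card_stab_o0]⟩
  obtain ⟨⟨j, s⟩, e⟩ := hbij.2 ⟨g, hg⟩
  exact ⟨_, List.getElem_mem j.2, (right_spec j.2).1, s, s.2, (congrArg Subtype.val e).symm⟩

/-- The double coset decomposition. -/
theorem decomp (g : M24) : ∃ i < 14, ∃ e ∈ Data.right, ∃ (ha : inM24 (Data.left.getD i 0) = true)
    (hb : inM24 e.1 = true), ∃ s ∈ S, ∃ t ∈ S, g = s * (el _ ha * el _ hb) * t := by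
  have hgo : (g : Equiv.Perm GolayPt) • o0 ∈ octads := smul_mem_octads g.2 o0_mem
  have h := cover_ok
  simp only [coverOk, Bool.and_eq_true, List.all_eq_true, List.any_eq_true, Nat.beq_eq,
    Nat.blt_eq] at h
  obtain ⟨e, he, hem⟩ := h.2 _ ((SporStruct.OctadOrbits.mem_univMasks _).2 ⟨_, hgo, rfl⟩)
  obtain ⟨⟨hi, hs⟩, heq⟩ := h.1 e he
  obtain ⟨hok, s, hsS, hs'⟩ := mem_S_of_has hs
  have hl := left_ok
  simp only [Bool.and_eq_true, List.all_eq_true, Nat.beq_eq, decide_eq_true_eq] at hl
  have ha : inM24 (Data.left.getD e.2.1 0) = true := by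
    rw [List.getD_eq_getElem _ _ (hl.2 ▸ hi)]
    exact hl.1 _ (List.getElem_mem _)
  have hst : (s * el _ ha)⁻¹ * g ∈ MulAction.stabilizer M24 o0 := by
    rw [MulAction.mem_stabilizer_iff, mul_smul, inv_smul_eq_iff]
    show (g : Equiv.Perm GolayPt) • o0 = ((s * el _ ha : M24) : Equiv.Perm GolayPt) • o0
    rw [Subgroup.coe_mul, mul_smul, hs', el_coe, o0, smul_setOfMask (okCode_of_inM24 ha),
      smul_setOfMask hok, heq, hem]
    exact (setOfMask_maskOfSet' _).symm
  obtain ⟨r, hr, hb, t, ht, hrt⟩ := exists_right hst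
  exact ⟨e.2.1, hi, r, hr, ha, hb, s, hsS, t, ht, by
    rw [inv_mul_eq_iff_eq_mul] at hrt
    rw [hrt]; group⟩
where
  setOfMask_maskOfSet' (s : Finset GolayPt) : setOfMask (maskOfSet s) = s :=
    maskOfSet_injective (maskOfSet_setOfMask (maskOfSet_lt s))

theorem kill_all {i : ℕ} (hi : i < 14) : killRow i = true := by
  interval_cases i
  exacts [kill0, kill1, kill2, kill3, kill4, kill5, kill6, kill7, kill8, kill9, kill10, kill11,
    kill12, kill13]

theorem no_bad {H : Subgroup M24} (h11 : ¬ 11 ∣ Nat.card H) (h23 : ¬ 23 ∣ Nat.card H) {u : ℕ}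
    (hok : okCode u = true) (hcan : canon u = u) (hbad : badOrd u = true) (g : M24)
    (hg : (g : Equiv.Perm GolayPt) = gperm u) : g ∉ H := by
  intro hmem
  simp only [badOrd, Bool.and_eq_true, Bool.not_eq_true', Bool.or_eq_true, Nat.beq_eq] at hbad
  have hne : g ≠ 1 := fun e => by
    have h1 : gperm u = gperm oneCode := by rw [gperm_oneCode, ← hg, e]; rfl
    have h2 := eq_of_gperm hok okCode_oneCode hcan canon_one h1
    have := hbad.1
    rw [← Bool.not_eq_true, Nat.beq_eq] at this
    exact this h2
  have o2 := okCode_mulP hok hok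
  have o4 := okCode_mulP o2 o2
  have o8 := okCode_mulP o4 o4
  rcases hbad.2 with h | h
  · have hpow : g ^ 11 = 1 := by
      apply Subtype.ext
      rw [SubmonoidClass.coe_pow, Subgroup.coe_one, hg, ← gperm_oneCode, ← h]
      simp only [p11, forceNat_eq]
      rw [gperm_mul o8 (okCode_mulP o2 hok), gperm_mul o4 o4, gperm_mul o2 o2, gperm_mul o2 hok,
        gperm_mul hok hok]
      simp only [pow_succ, pow_zero, one_mul, mul_assoc]
    haveI : Fact (Nat.Prime 11) := ⟨by norm_num⟩
    exact h11 (orderOf_eq_prime hpow hne ▸ Subgroup.orderOf_dvd_natCard H hmem)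
  · have hpow : g ^ 23 = 1 := by
      apply Subtype.ext
      rw [SubmonoidClass.coe_pow, Subgroup.coe_one, hg, ← gperm_oneCode, ← h]
      simp only [p23, forceNat_eq]
      rw [gperm_mul (okCode_mulP o8 o8) (okCode_mulP o4 (okCode_mulP o2 hok)), gperm_mul o8 o8,
        gperm_mul o4 (okCode_mulP o2 hok), gperm_mul o4 o4, gperm_mul o2 o2, gperm_mul o2 hok,
        gperm_mul hok hok]
      simp only [pow_succ, pow_zero, one_mul, mul_assoc]
    haveI : Fact (Nat.Prime 23) := ⟨by norm_num⟩
    exact h23 (orderOf_eq_prime hpow hne ▸ Subgroup.orderOf_dvd_natCard H hmem)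

/-- A subgroup containing `S` without elements of order 11 and 23 fixes one of the configurations. -/
theorem le_stab (H : Subgroup M24) (hS : S ≤ H) (h11 : ¬ 11 ∣ Nat.card H)
    (h23 : ¬ 23 ∣ Nat.card H) :
    H ≤ MulAction.stabilizer M24 o0 ∨ H ≤ MulAction.stabilizer M24 x0 ∨
      H ≤ MulAction.stabilizer M24 t0 := by
  have hcov : ∀ g ∈ H, g ∈ MulAction.stabilizer M24 o0 ∨ g ∈ MulAction.stabilizer M24 x0 ∨
      g ∈ MulAction.stabilizer M24 t0 := by
    intro g hg
    obtain ⟨i, hi, e, he, ha, hb, s, hs, t, ht, rfl⟩ := decomp g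
    have hcH : el _ ha * el _ hb ∈ H := by
      have := H.mul_mem (H.mul_mem (H.inv_mem (hS hs)) hg) (H.inv_mem (hS ht))
      simpa [mul_assoc] using this
    have hk := kill_all hi
    simp only [killRow, Bool.and_eq_true, Nat.beq_eq, List.all_eq_true] at hk
    obtain ⟨j, hj, rfl⟩ := List.getElem_of_mem he
    have hj' : j < (Data.wit.getD i []).length := by rw [hk.1]; exact length_right ▸ hj
    have hz := hk.2 (Data.right[j], (Data.wit.getD i [])[j]) (by
      rw [List.mem_iff_getElem]
      exact ⟨j, by rw [List.length_zip]; omega, by rw [List.getElem_zip]⟩)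
    have okc := okCode_mulP (okCode_of_inM24 ha) (okCode_of_inM24 hb)
    have hcoe : ((el _ ha * el _ hb : M24) : Equiv.Perm GolayPt) =
        gperm (mulP 24 5 (Data.left.getD i 0) (Data.right[j]).1) :=
      (gperm_mul (okCode_of_inM24 ha) (okCode_of_inM24 hb)).symm
    simp only [killOne, forceNat_eq] at hz
    cases hw : Nat.beq (Data.wit.getD i [])[j] 0 with
    | true =>
      rw [hw, cond_true] at hz
      simp only [fixesAny, Bool.or_eq_true] at hz
      have hs' := S_fix hs
      have ht' := S_fix ht
      rcases hz with (hz | hz) | hz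
      · refine Or.inl (mul_mem (mul_mem hs'.1.1 ?_) ht'.1.1)
        show ((el _ ha * el _ hb : M24) : Equiv.Perm GolayPt) • o0 = o0
        rw [hcoe]; exact octFix_spec okc hz
      · refine Or.inr (Or.inl (mul_mem (mul_mem hs'.1.2 ?_) ht'.1.2))
        show ((el _ ha * el _ hb : M24) : Equiv.Perm GolayPt) • x0 = x0
        rw [hcoe]; exact famFix_spec okc hz
      · refine Or.inr (Or.inr (mul_mem (mul_mem hs'.2 ?_) ht'.2))
        show ((el _ ha * el _ hb : M24) : Equiv.Perm GolayPt) • t0 = t0
        rw [hcoe]; exact famFix_spec okc hz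
    | false =>
      exfalso
      rw [hw, cond_false, Bool.and_eq_true] at hz
      obtain ⟨hokw, w, hwS, hw'⟩ := mem_S_of_has hz.1
      have hmem : el _ ha * el _ hb * w ∈ H := H.mul_mem hcH (hS hwS)
      exact no_bad h11 h23 (okCode_mulP okc hokw) (canon_mulP _ _) hz.2 _
        (by rw [Subgroup.coe_mul, hcoe, hw', ← gperm_mul okc hokw]) hmem
  refine Union.le_of_three hcov hS (fun x hx => (S_fix hx).1.1) (fun x hx => (S_fix hx).1.2)
    (fun x hx => (S_fix hx).2) ?_
  have h1 : S.relIndex H * Nat.card S = Nat.card H := by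
    rw [← Subgroup.relIndex_bot_left S, ← Subgroup.relIndex_bot_left H, mul_comm]
    exact Subgroup.relIndex_mul_relIndex ⊥ S H bot_le hS
  rw [Nat.odd_iff]
  by_contra hodd
  have h2 : Nat.card H ∣ 244823040 := by rw [← Golay.card_M24]; exact Subgroup.card_subgroup_dvd_card H
  have h3 : 2048 ∣ Nat.card H := by
    rw [← h1, card_S]
    exact (Nat.mul_dvd_mul_right (Nat.dvd_of_mod_eq_zero (by omega : S.relIndex H % 2 = 0)) 1024)
  have := h3.trans h2
  norm_num at this

end Cfsg.Agent.Lib.M24Index.Main
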