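import Cfsg.Agent.Lib.M24Index.Fixed
import Cfsg.Agent.Lib.SporStruct.PairOrbits

/-!
# Subgroups of index 276 in M24 fix a pair of points
-/

set_option autoImplicit false
set_option linter.style.haveILetI false

namespace Cfsg.Agent.Lib.M24Index.Pair

open Cfsg Cfsg.Agent.Lib.Golay
open scoped Pointwise

/-- The orbit length of a point is congruent to the number of fixed points inside the orbit. -/
theorem orbit_mod {p : ℕ} (hp : p.Prime) (L : Subgroup M24) {z : M24} (hzL : z ∈ L)
    (hz : orderOf z = p) (r : GolayPt) :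
    ∃ f, Nat.card (MulAction.orbit L r) % p = f % p ∧
      f ≤ Nat.card {a // (z : Equiv.Perm GolayPt) a = a} ∧
      ((z : Equiv.Perm GolayPt) r = r → 1 ≤ f) ∧
      (f = Nat.card (MulAction.orbit L r) →
        ∀ s ∈ MulAction.orbit L r, (z : Equiv.Perm GolayPt) s = s) := by
  haveI : Fact p.Prime := ⟨hp⟩
  let z' : L := ⟨z, hzL⟩
  have hP : IsPGroup p (Subgroup.zpowers z') :=
    IsPGroup.of_card (n := 1) (by rw [Nat.card_zpowers, ← Subgroup.orderOf_coe, hz, pow_one])
  set F := MulAction.fixedPoints (Subgroup.zpowers z') (MulAction.orbit L r)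
  have hfix : ∀ w ∈ F, (z : Equiv.Perm GolayPt) w.1 = w.1 :=
    fun w hw => congrArg Subtype.val (hw ⟨z', Subgroup.mem_zpowers z'⟩)
  refine ⟨Nat.card F, hP.card_modEq_card_fixedPoints _, ?_, fun hr => ?_, fun he s hs => ?_⟩
  · exact Nat.card_le_card_of_injective (fun w => ⟨w.1.1, hfix w.1 w.2⟩)
      (fun a b h => Subtype.ext (Subtype.ext (congrArg Subtype.val h :)))
  · haveI : Nonempty F := by
      refine ⟨⟨⟨r, MulAction.mem_orbit_self r⟩, ?_⟩⟩
      rintro ⟨g, k, rfl⟩
      apply Subtype.ext
      show ((((z' ^ k : L) : M24) : Equiv.Perm GolayPt)) r = r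
      rw [SubgroupClass.coe_zpow, SubgroupClass.coe_zpow]
      exact Equiv.Perm.zpow_apply_eq_self_of_apply_eq_self hr k
    exact Nat.card_pos
  · have : F = Set.univ := Set.eq_of_subset_of_ncard_le (Set.subset_univ _) (by
      rw [Set.ncard_univ, ← Nat.card_coe_set_eq, he])
    exact hfix ⟨s, hs⟩ (by rw [this]; trivial)

theorem card_pts : Nat.card GolayPt = 24 := by rw [Nat.card_eq_fintype_card]; decide +kernel

theorem orbit_facts (L : Subgroup M24) (r : GolayPt) :
    1 ≤ Nat.card (MulAction.orbit L r) ∧ Nat.card (MulAction.orbit L r) ≤ 24 ∧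
      Nat.card (MulAction.orbit L r) ∣ Nat.card L ∧
      Nat.card (MulAction.orbit L r) * Nat.card (MulAction.stabilizer L r) = Nat.card L := by
  have he : Nat.card (MulAction.orbit L r) * Nat.card (MulAction.stabilizer L r) = Nat.card L := by
    rw [← Nat.card_prod]
    exact Nat.card_congr (MulAction.orbitProdStabilizerEquivGroup L r)
  haveI : Nonempty (MulAction.orbit L r) := ⟨⟨r, MulAction.mem_orbit_self r⟩⟩
  refine ⟨Nat.card_pos, ?_, Dvd.intro _ he, he⟩
  rw [← card_pts]
  exact Nat.card_le_card_of_injective Subtype.val Subtype.val_injective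

theorem card_stab_pair {s : Finset GolayPt} (hs : s.card = 2) :
    Nat.card (MulAction.stabilizer M24 s) = 887040 := by
  have h := Nat.card_congr (MulAction.orbitProdStabilizerEquivGroup M24 s)
  rw [Nat.card_prod, Nat.card_coe_set_eq, SporStruct.PairOrbits.orbit_eq hs,
    SporStruct.PairOrbits.ncard_ksets, Golay.card_M24] at h
  omega

theorem ncard_fix (z : M24) :
    {a : GolayPt | (z : Equiv.Perm GolayPt) a = a}.ncard =
      Nat.card {a // (z : Equiv.Perm GolayPt) a = a} :=
  (Nat.card_coe_set_eq _).symm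

/-- A subgroup of index 276 is the stabiliser of a pair of points. -/
theorem pair (H : Subgroup M24) (hH : Nat.card H = 887040) :
    ∃ s : Finset GolayPt, s.card = 2 ∧ H = MulAction.stabilizer M24 s := by
  classical
  have elts : ∀ L : Subgroup M24, ∀ p, p.Prime → p ∣ Nat.card L →
      ∃ z ∈ L, orderOf z = p := fun L p hp hd => by
    haveI : Fact p.Prime := ⟨hp⟩
    obtain ⟨x, hx⟩ := exists_prime_orderOf_dvd_card' p hd
    exact ⟨x, x.2, by rw [Subgroup.orderOf_coe, hx]⟩
  obtain ⟨x, hxH, hx⟩ := elts H 11 (by norm_num) (by rw [hH]; norm_num)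
  obtain ⟨y, hyH, hy⟩ := elts H 7 (by norm_num) (by rw [hH]; norm_num)
  have hfx := Fixed.fixed_eleven hx
  have hne : Nonempty {a // (x : Equiv.Perm GolayPt) a = a} :=
    (Nat.card_pos_iff.1 (by rw [hfx]; norm_num)).1
  obtain ⟨r, hr⟩ := hne
  obtain ⟨hk1, hk24, hkd, -⟩ := orbit_facts H r
  obtain ⟨f, hf, hfle, hf1, -⟩ := orbit_mod (by norm_num) H hxH hx r
  obtain ⟨f', hf', hf'le, -, -⟩ := orbit_mod (by norm_num) H hyH hy r
  rw [hfx] at hfle
  rw [Fixed.fixed_seven hy] at hf'le
  rw [hH] at hkd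
  have hcases : Nat.card (MulAction.orbit H r) = 1 ∨ Nat.card (MulAction.orbit H r) = 2 ∨
      Nat.card (MulAction.orbit H r) = 24 := by
    have := hf1 hr
    generalize Nat.card (MulAction.orbit H r) = k at *
    interval_cases k <;> omega
  rcases hcases with hk | hk | hk
  · exfalso
    have hle : H ≤ MulAction.stabilizer M24 r := fun h hh => by
      rw [MulAction.mem_stabilizer_iff]
      have hsub : Subsingleton (MulAction.orbit H r) :=
        (Nat.card_eq_one_iff_unique.1 hk).1
      exact congrArg Subtype.val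
        (Subsingleton.elim (⟨_, MulAction.mem_orbit r (⟨h, hh⟩ : H)⟩ : MulAction.orbit H r)
          ⟨r, MulAction.mem_orbit_self r⟩)
    have hd := Subgroup.card_dvd_of_le hle
    have hst : Nat.card (MulAction.stabilizer M24 r) = 10200960 := by
      rw [← card_stab_point r]
      refine (Nat.card_congr (Equiv.ofBijective
        (fun g => (⟨((g : M24) : Equiv.Perm GolayPt), (g : M24).2, g.2⟩ :
          ↥(M24 ⊓ MulAction.stabilizer (Equiv.Perm GolayPt) r)))
        ⟨fun a b h => Subtype.ext (Subtype.ext (congrArg Subtype.val h :)),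
          fun w => ⟨⟨⟨w.1, w.2.1⟩, w.2.2⟩, rfl⟩⟩))
    rw [hH, hst] at hd
    norm_num at hd
  · refine ⟨(MulAction.orbit H r).toFinset, ?_, ?_⟩
    · rw [Set.toFinset_card, ← Nat.card_eq_fintype_card, hk]
    · refine Subgroup.eq_of_le_of_card_ge (fun h hh => ?_) ?_
      · rw [MulAction.mem_stabilizer_iff]
        refine Finset.eq_of_subset_of_card_le (fun q hq => ?_) (by rw [Finset.card_smul_finset])
        obtain ⟨t, ht, rfl⟩ := Finset.mem_smul_finset.1 hq
        rw [Set.mem_toFinset] at ht ⊢
        obtain ⟨k, rfl⟩ := ht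
        exact ⟨⟨h, hh⟩ * k, mul_smul (⟨h, hh⟩ : H) k r⟩
      · rw [hH, card_stab_pair (by rw [Set.toFinset_card, ← Nat.card_eq_fintype_card, hk])]
  · exfalso
    have htrans : ∀ a, a ∈ MulAction.orbit H r := fun a => by
      have h : MulAction.orbit H r = Set.univ := Set.eq_of_subset_of_ncard_le (Set.subset_univ _)
        (by rw [Set.ncard_univ, card_pts, ← Nat.card_coe_set_eq, hk])
      rw [h]; trivial
    -- the point stabilisers inside the whole group
    let st : GolayPt → Subgroup M24 := fun a => (MulAction.stabilizer H a).map H.subtype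
    have hst : ∀ a, Nat.card (st a) = 36960 := fun a => by
      obtain ⟨-, -, -, he⟩ := orbit_facts H a
      rw [Subgroup.card_map_of_injective H.subtype_injective]
      rw [MulAction.orbit_eq_iff.2 (htrans a), hk, hH] at he
      omega
    have hmem : ∀ a (g : M24), g ∈ st a ↔ g ∈ H ∧ (g : Equiv.Perm GolayPt) a = a := fun a g => by
      constructor
      · rintro ⟨h, hh, rfl⟩
        exact ⟨h.2, hh⟩
      · rintro ⟨hg, hga⟩
        exact ⟨⟨g, hg⟩, hga, rfl⟩
    have key : ∀ a, ∃ q, q ≠ a ∧ (∀ g ∈ st a, (g : Equiv.Perm GolayPt) q = q) ∧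
        ∀ q', q' ≠ a → (∀ g ∈ st a, (g : Equiv.Perm GolayPt) q' = q') → q' = q := by
      intro a
      obtain ⟨x', hx'H, hx'⟩ := elts (st a) 11 (by norm_num) (by rw [hst]; norm_num)
      obtain ⟨y', hy'H, hy'⟩ := elts (st a) 7 (by norm_num) (by rw [hst]; norm_num)
      have hxa : (x' : Equiv.Perm GolayPt) a = a := ((hmem a x').1 hx'H).2
      obtain ⟨u, v, huv, he⟩ := Set.ncard_eq_two.1 ((ncard_fix x').trans (Fixed.fixed_eleven hx'))
      obtain ⟨q, hqa, hfix⟩ : ∃ q, q ≠ a ∧
          ∀ b, (x' : Equiv.Perm GolayPt) b = b ↔ b = a ∨ b = q := by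
        have hset : ∀ b, (x' : Equiv.Perm GolayPt) b = b ↔ b = u ∨ b = v :=
          fun b => Set.ext_iff.1 he b
        rcases (hset a).1 hxa with rfl | rfl
        · exact ⟨v, fun h => huv h.symm, hset⟩
        · exact ⟨u, huv, fun b => (hset b).trans or_comm⟩
      have hxq : (x' : Equiv.Perm GolayPt) q = q := (hfix q).2 (Or.inr rfl)
      obtain ⟨hl1, hl24, hld, -⟩ := orbit_facts (st a) q
      obtain ⟨g, hg, hgle, hg1, hgall⟩ := orbit_mod (by norm_num) (st a) hx'H hx' q
      obtain ⟨g', hg', hg'le, -, -⟩ := orbit_mod (by norm_num) (st a) hy'H hy' q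
      rw [Fixed.fixed_eleven hx'] at hgle
      rw [Fixed.fixed_seven hy'] at hg'le
      rw [hst] at hld
      have hone := hg1 hxq
      have hnot : a ∉ MulAction.orbit (st a) q := by
        rintro ⟨h, hh⟩
        have h1 : (((h : M24) : Equiv.Perm GolayPt)) q = a := hh
        exact hqa ((((h : M24) : Equiv.Perm GolayPt)).injective
          (h1.trans (((hmem a h).1 h.2).2).symm))
      have hl : Nat.card (MulAction.orbit (st a) q) ≠ 24 := fun h24 => by
        have h : MulAction.orbit (st a) q = Set.univ := Set.eq_of_subset_of_ncard_le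
          (Set.subset_univ _) (by rw [Set.ncard_univ, card_pts, ← Nat.card_coe_set_eq, h24])
        exact hnot (h ▸ trivial)
      have hle2 : Nat.card (MulAction.orbit (st a) q) ≤ 2 ∧
          Nat.card (MulAction.orbit (st a) q) = g := by
        generalize Nat.card (MulAction.orbit (st a) q) = k at *
        interval_cases k <;> omega
      refine ⟨q, hqa, fun h hh => ?_, fun q' hq' hfx' => ?_⟩
      · have hin : (h : Equiv.Perm GolayPt) q ∈ MulAction.orbit (st a) q :=
          MulAction.mem_orbit q (⟨h, hh⟩ : st a)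
        rcases (hfix _).1 (hgall hle2.2.symm _ hin) with h' | h'
        · exact absurd (h' ▸ hin) hnot
        · exact h'
      · exact ((hfix q').1 (hfx' x' hx'H)).resolve_left hq'
    choose σ hσne hσfix hσuniq using key
    have hinv : ∀ a, σ (σ a) = a := by
      intro a
      have hle : st a ≤ st (σ a) := fun g hg => (hmem _ g).2 ⟨((hmem a g).1 hg).1, hσfix a g hg⟩
      have heq : st a = st (σ a) := Subgroup.eq_of_le_of_card_ge hle (by rw [hst, hst])
      refine (hσuniq (σ a) a (Ne.symm (hσne a)) fun g hg => ?_).symm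
      rw [← heq] at hg
      exact ((hmem a g).1 hg).2
    obtain ⟨u, v, w, huv, huw, hvw, he⟩ :=
      Set.ncard_eq_three.1 ((ncard_fix y).trans (Fixed.fixed_seven hy))
    have hset : ∀ b, (y : Equiv.Perm GolayPt) b = b ↔ b = u ∨ b = v ∨ b = w :=
      fun b => Set.ext_iff.1 he b
    have hmaps : ∀ b, (y : Equiv.Perm GolayPt) b = b → σ b = u ∨ σ b = v ∨ σ b = w :=
      fun b hb => (hset _).1 (hσfix b y ((hmem b y).2 ⟨hyH, hb⟩))
    have hu := hmaps u ((hset u).2 (Or.inl rfl))
    have hv := hmaps v ((hset v).2 (Or.inr (Or.inl rfl)))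
    have hw := hmaps w ((hset w).2 (Or.inr (Or.inr rfl)))
    have := hinv u; have := hinv v; have := hinv w
    have := hσne u; have := hσne v; have := hσne w
    grind

end Cfsg.Agent.Lib.M24Index.Pair
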